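import Groth.Agent.SymGr.Regular
import Mathlib.RingTheory.LocalRing.Module
import Mathlib.RingTheory.Regular.RegularSequence

/-!
# Quasi-regular sequences: change of generators, local structure of quasi-regular ideals
-/

set_option autoImplicit false
universe u
open MvPolynomial

noncomputable section

namespace Groth.Agent.QReg

variable {A : Type u} [CommRing A]

theorem isHomogeneous_lin {r : ℕ} (c : Fin r → A) :
    (∑ j, C (c j) * X j).IsHomogeneous 1 :=
  IsHomogeneous.sum _ _ _ fun j _ => by simpa using (isHomogeneous_C _ (c j)).mul (isHomogeneous_X A j)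

theorem coeff_lin {r : ℕ} (c : Fin r → A) (i : Fin r) :
    (∑ j, C (c j) * X j).coeff (Finsupp.single i 1) = c i := by
  classical
  simp [coeff_sum, coeff_C_mul, coeff_X, Finsupp.single_left_inj]

/-- degree one part of quasi-regularity -/
theorem coeff_mem_of_sum_mem_sq {r : ℕ} {f : Fin r → A} (hf : CAlgX.IsQuasiRegular f)
    (c : Fin r → A) (h : ∑ i, c i * f i ∈ Ideal.span (Set.range f) ^ 2) (i : Fin r) :
    c i ∈ Ideal.span (Set.range f) := by
  have := hf 1 _ (isHomogeneous_lin c) (by simpa using h) (Finsupp.single i 1)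
  rwa [coeff_lin] at this

/-- quasi-regularity depends only on the ideal and the number of generators -/
theorem isQuasiRegular_of_span_eq {n : ℕ} (f f' : Fin n → A) (hf : CAlgX.IsQuasiRegular f)
    (h : Ideal.span (Set.range f') = Ideal.span (Set.range f)) : CAlgX.IsQuasiRegular f' := by
  classical
  set J := Ideal.span (Set.range f) with hJ
  have ha : ∀ i, ∃ a : Fin n → A, ∑ j, a j * f j = f' i := fun i =>
    (Submodule.mem_span_range_iff_exists_fun A).1
      (show f' i ∈ J from h ▸ Ideal.subset_span (Set.mem_range_self i))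
  have hb : ∀ i, ∃ b : Fin n → A, ∑ j, b j * f' j = f i := fun i =>
    (Submodule.mem_span_range_iff_exists_fun A).1
      (show f i ∈ Ideal.span (Set.range f') from h.symm ▸ Ideal.subset_span (Set.mem_range_self i))
  choose a ha using ha
  choose b hb using hb
  set q := Ideal.Quotient.mk J with hq
  have hBA : (Matrix.of b * Matrix.of a).map q = 1 := by
    ext i j
    have hc : (∑ k, b i k * a k j) - (1 : Matrix (Fin n) (Fin n) A) i j ∈ J := by
      refine coeff_mem_of_sum_mem_sq hf
        (fun j => (∑ k, b i k * a k j) - (1 : Matrix (Fin n) (Fin n) A) i j) ?_ j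
      have : ∑ j, ((∑ k, b i k * a k j) - (1 : Matrix (Fin n) (Fin n) A) i j) * f j = 0 := by
        simp only [sub_mul, Finset.sum_sub_distrib, Finset.sum_mul, mul_assoc]
        rw [Finset.sum_comm]
        simp only [← Finset.mul_sum, ha, hb, Matrix.one_apply, ite_mul, one_mul, zero_mul,
          Finset.sum_ite_eq, Finset.mem_univ, if_true, sub_self]
      rw [this]
      exact zero_mem _
    rw [← Ideal.Quotient.mk_eq_mk_iff_sub_mem] at hc
    rw [Matrix.map_apply, Matrix.mul_apply]
    simp only [Matrix.of_apply]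
    rw [hc, Matrix.one_apply, Matrix.one_apply]
    split_ifs <;> simp [hq]
  have hAB : (Matrix.of a).map q * (Matrix.of b).map q = 1 := by
    rw [Matrix.map_mul] at hBA
    exact mul_eq_one_comm.1 hBA
  intro m P hP hev d
  let La : Fin n → MvPolynomial (Fin n) A := fun i => ∑ j, C (a i j) * X j
  let Lb : Fin n → MvPolynomial (Fin n) A := fun i => ∑ j, C (b i j) * X j
  have hQ : (bind₁ La P).IsHomogeneous m := by
    have := hP.aeval La fun i => isHomogeneous_lin (a i)
    rwa [one_mul, aeval_eq_bind₁] at this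
  have hev' : eval f (bind₁ La P) ∈ J ^ (m + 1) := by
    have he : eval f (bind₁ La P) = eval f' P := by
      show eval₂Hom (RingHom.id A) f (bind₁ La P) = _
      rw [eval₂Hom_bind₁]
      exact congrArg (fun g => eval₂Hom (RingHom.id A) g P) (funext fun i => by simp [La, ha])
    rw [he]; exact h ▸ hev
  have hz : MvPolynomial.map q (bind₁ La P) = 0 := by
    ext e
    rw [coeff_map, coeff_zero, hq, Ideal.Quotient.eq_zero_iff_mem]
    exact hf m _ hQ hev' e
  have hcomp : (fun i => bind₁ (fun j => MvPolynomial.map q (Lb j)) (MvPolynomial.map q (La i))) =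
      (X : Fin n → MvPolynomial (Fin n) (A ⧸ J)) := by
    funext i
    simp only [La, Lb, map_sum, map_mul, map_C, map_X, bind₁_C_right, bind₁_X_right, Finset.mul_sum]
    rw [Finset.sum_comm]
    simp only [← mul_assoc, ← map_mul, ← Finset.sum_mul, ← map_sum]
    have : ∀ k, ∑ j, q (a i j) * q (b j k) = (1 : Matrix (Fin n) (Fin n) (A ⧸ J)) i k := fun k => by
      rw [← hAB, Matrix.mul_apply]; simp
    simp only [map_sum q, map_mul q, this, Matrix.one_apply]
    simp
  have hP0 : MvPolynomial.map q P = 0 := by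
    have h1 := congrArg (bind₁ fun j => MvPolynomial.map q (Lb j)) hz
    rw [map_bind₁, bind₁_bind₁, hcomp, map_zero, bind₁, aeval_X_left_apply] at h1
    exact h1
  have h2 := congrArg (coeff d) hP0
  rw [coeff_map, coeff_zero, hq, Ideal.Quotient.eq_zero_iff_mem] at h2
  rwa [h]

theorem weaklyRegular_quotient (J : Ideal A) {r : ℕ} {f : Fin r → A}
    (hf : RingTheory.Sequence.IsWeaklyRegular (A ⧸ J) (List.ofFn f)) :
    CAlgX.IsQuasiRegular fun i => Ideal.Quotient.mk J (f i) := by
  apply SymGr.Regular.isQuasiRegular_of_isWeaklyRegular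
  rw [← RingTheory.Sequence.isWeaklyRegular_map_algebraMap_iff (A ⧸ J) (A ⧸ J) (List.ofFn f),
    List.map_ofFn] at hf
  exact hf

/-- `J ∩ R^k ⊆ J R^k + J ∩ R^(k+1)` for a quasi-regular sequence modulo `J` -/
theorem inf_pow_step (J : Ideal A) {r : ℕ} {f : Fin r → A}
    (hf : CAlgX.IsQuasiRegular fun i => Ideal.Quotient.mk J (f i)) (k : ℕ) :
    J ⊓ Ideal.span (Set.range f) ^ k ≤
      J * Ideal.span (Set.range f) ^ k ⊔ J ⊓ Ideal.span (Set.range f) ^ (k + 1) := by
  classical
  set R := Ideal.span (Set.range f) with hR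
  rintro x ⟨hxJ, hxR⟩
  obtain ⟨P, hP, rfl⟩ := (Ideal.mem_span_pow_iff_exists_isHomogeneous f _).1 hxR
  set q := Ideal.Quotient.mk J with hq
  have hspan : Ideal.span (Set.range fun i => q (f i)) = R.map q := by
    rw [hR, Ideal.map_span, ← Set.range_comp]; rfl
  have hco : ∀ d, P.coeff d ∈ J ⊔ R := by
    intro d
    have h0 : eval (fun i => q (f i)) (MvPolynomial.map q P) = 0 := by
      rw [eval_map, ← coe_eval₂Hom, show eval₂Hom q (fun i => q (f i)) P = q (eval f P) from
        (eval₂_comp_left q (RingHom.id A) f P).symm, hq, Ideal.Quotient.eq_zero_iff_mem]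
      exact hxJ
    have := hf k (MvPolynomial.map q P) (hP.map q) (by rw [h0]; exact zero_mem _) d
    rw [hspan, coeff_map, ← Ideal.mem_comap, Ideal.comap_map_of_surjective q
      Ideal.Quotient.mk_surjective, ← RingHom.ker_eq_comap_bot, hq, Ideal.mk_ker, sup_comm] at this
    exact this
  have hmain : eval f P ∈ J * R ^ k ⊔ R ^ (k + 1) := by
    rw [P.as_sum, map_sum]
    refine sum_mem fun d hd => ?_
    have hmon : eval f (monomial d (1 : A)) ∈ R ^ k :=
      RegLoc.AdicNoeth.mem_pow_of_isHomogeneous f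
        (isHomogeneous_monomial _ (by
          by_contra hne
          exact mem_support_iff.1 hd (hP.coeff_eq_zero hne)))
    obtain ⟨j, hj, r', hr, hjr⟩ := Submodule.mem_sup.1 (hco d)
    rw [show monomial d (P.coeff d) = C (P.coeff d) * monomial d 1 by rw [C_mul_monomial, mul_one],
      map_mul, eval_C, ← hjr, add_mul, pow_succ']
    exact Submodule.add_mem_sup (Ideal.mul_mem_mul hj hmon) (Ideal.mul_mem_mul hr hmon)
  obtain ⟨j, hj, r', hr', hjr⟩ := Submodule.mem_sup.1 hmain
  refine Submodule.mem_sup.2 ⟨j, hj, r', ⟨?_, hr'⟩, hjr⟩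
  have hjJ : j ∈ J := Ideal.mul_le_left hj
  exact (Ideal.add_mem_iff_right J hjJ).1 (hjr ▸ hxJ)

theorem inf_pow (J : Ideal A) {r : ℕ} {f : Fin r → A}
    (hf : CAlgX.IsQuasiRegular fun i => Ideal.Quotient.mk J (f i)) (n N : ℕ) (hnN : n ≤ N) :
    J ⊓ Ideal.span (Set.range f) ^ n =
      J * Ideal.span (Set.range f) ^ n ⊔ J ⊓ Ideal.span (Set.range f) ^ N := by
  refine le_antisymm ?_ (sup_le (le_inf Ideal.mul_le_left Ideal.mul_le_right)
    (inf_le_inf_left _ (Ideal.pow_le_pow_right hnN)))
  induction N, hnN using Nat.le_induction with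
  | base => exact le_sup_right
  | succ N hN ih =>
    refine ih.trans (sup_le le_sup_left ((inf_pow_step J hf N).trans ?_))
    exact sup_le_sup_right (Ideal.mul_mono_right (Ideal.pow_le_pow_right hN)) _

theorem inf_pow_eq_mul [IsNoetherianRing A] (J : Ideal A) {r : ℕ} {f : Fin r → A}
    (hf : CAlgX.IsQuasiRegular fun i => Ideal.Quotient.mk J (f i))
    (hrad : Ideal.span (Set.range f) ≤ (⊥ : Ideal A).jacobson) (n : ℕ) :
    J ⊓ Ideal.span (Set.range f) ^ n = J * Ideal.span (Set.range f) ^ n := by
  refine le_antisymm ?_ (le_inf Ideal.mul_le_left Ideal.mul_le_right)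
  intro x hx
  set R := Ideal.span (Set.range f)
  set T := J * R ^ n
  have hmem : Submodule.mkQ T x ∈ ⨅ N : ℕ, R ^ N • (⊤ : Submodule A (A ⧸ T)) := by
    rw [Submodule.mem_iInf]
    intro N
    rcases le_total n N with h | h
    · rw [inf_pow J hf n N h] at hx
      obtain ⟨j, hj, y, hy, rfl⟩ := Submodule.mem_sup.1 hx
      rw [map_add, Submodule.mkQ_apply, (Submodule.Quotient.mk_eq_zero T).2 hj, zero_add,
        show y = y • (1 : A) by simp, map_smul]
      exact Submodule.smul_mem_smul hy.2 trivial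
    · rw [show x = x • (1 : A) by simp, map_smul]
      exact Submodule.smul_mem_smul (Ideal.pow_le_pow_right h hx.2) trivial
  rw [Ideal.iInf_pow_smul_eq_bot_of_le_jacobson _ hrad, Submodule.mem_bot] at hmem
  exact (Submodule.Quotient.mk_eq_zero T).1 hmem

end Groth.Agent.QReg
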