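import Groth.Agent.QReg.Basic
import Mathlib.RingTheory.Spectrum.Prime.FreeLocus
import Mathlib.RingTheory.LocalProperties.FinitePresentation
import Mathlib.RingTheory.LocalProperties.Projective

/-!
# Locally quasi-regular ideals
-/

set_option autoImplicit false
universe u
open MvPolynomial

noncomputable section

namespace Groth.Agent.QReg

variable {R : Type u} [CommRing R] {J : Ideal R}

section Frame

variable {S M : Type u} [CommRing S] [AddCommGroup M] [Module S M]

/-- a finite projective module near a prime: two maps inverse to each other up to `G` -/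
theorem exists_frame [Module.Finite S M] [Module.Projective S M] (p : Ideal S) [p.IsPrime] :
    ∃ (G : S) (r : ℕ) (Ψ : (Fin r → S) →ₗ[S] M) (Φ : M →ₗ[S] (Fin r → S)),
      G ∉ p ∧ (∀ v, Ψ (Φ v) = G • v) ∧ (∀ c, Φ (Ψ c) = G • c) := by
  classical
  haveI : Module.FinitePresentation S M := Module.finitePresentation_of_projective S M
  haveI : Module.Free (Localization.AtPrime p) (LocalizedModule p.primeCompl M) :=
    Module.free_of_flat_of_isLocalRing
  let Mp := LocalizedModule p.primeCompl M
  let b := Module.finBasis (Localization.AtPrime p) Mp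
  set r := Module.finrank (Localization.AtPrime p) Mp
  let ι := LocalizedModule.mkLinearMap p.primeCompl M
  let κ : (Fin r → S) →ₗ[S] (Fin r → Localization.AtPrime p) :=
    LinearMap.piMap fun _ => Algebra.linearMap S (Localization.AtPrime p)
  haveI : IsLocalizedModule p.primeCompl κ := IsLocalizedModule.pi p.primeCompl _
  let e : Mp ≃ₗ[S] (Fin r → Localization.AtPrime p) := b.equivFun.restrictScalars S
  obtain ⟨Φ, s, hΦ⟩ :=
    Module.FinitePresentation.exists_lift_of_isLocalizedModule p.primeCompl κ (e.toLinearMap ∘ₗ ι)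
  haveI : Module.FinitePresentation S (Fin r → S) := Module.finitePresentation_of_projective S _
  obtain ⟨Ψ, t, hΨ⟩ :=
    Module.FinitePresentation.exists_lift_of_isLocalizedModule p.primeCompl ι
      (e.symm.toLinearMap ∘ₗ κ)
  have h1 : ι ∘ₗ (Ψ ∘ₗ Φ) = ι ∘ₗ (((t : S) * (s : S)) • LinearMap.id) := by
    refine LinearMap.ext fun v => ?_
    have a1 := LinearMap.congr_fun hΨ (Φ v)
    have a2 := LinearMap.congr_fun hΦ v
    simp only [LinearMap.comp_apply, LinearMap.smul_apply, LinearEquiv.coe_coe] at a1 a2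
    simp only [LinearMap.comp_apply, LinearMap.smul_apply, LinearMap.id_apply, a1, a2,
      Submonoid.smul_def, map_smul, LinearEquiv.symm_apply_apply, mul_smul]
  have h2 : κ ∘ₗ (Φ ∘ₗ Ψ) = κ ∘ₗ (((t : S) * (s : S)) • LinearMap.id) := by
    refine LinearMap.ext fun c => ?_
    have a1 := LinearMap.congr_fun hΦ (Ψ c)
    have a2 := LinearMap.congr_fun hΨ c
    simp only [LinearMap.comp_apply, LinearMap.smul_apply, LinearEquiv.coe_coe] at a1 a2
    simp only [LinearMap.comp_apply, LinearMap.smul_apply, LinearMap.id_apply, a1, a2,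
      Submonoid.smul_def, map_smul, LinearEquiv.apply_symm_apply, mul_smul]
    exact smul_comm _ _ _
  obtain ⟨u, hu⟩ := Module.Finite.exists_smul_of_comp_eq_of_isLocalizedModule p.primeCompl ι _ _ h1
  obtain ⟨u', hu'⟩ := Module.Finite.exists_smul_of_comp_eq_of_isLocalizedModule p.primeCompl κ _ _ h2
  refine ⟨(u : S) * u' * ((t : S) * s), r, Ψ, ((u : S) * u') • Φ, ?_, fun v => ?_, fun c => ?_⟩
  · exact (u * u' * (t * s)).2
  · have h := LinearMap.congr_fun hu v
    simp only [LinearMap.comp_apply, LinearMap.smul_apply, LinearMap.id_apply,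
      Submonoid.smul_def] at h
    rw [LinearMap.smul_apply, map_smul, mul_comm (u : S) u', mul_smul, h]
    simp only [mul_smul]
  · have h := LinearMap.congr_fun hu' c
    simp only [LinearMap.comp_apply, LinearMap.smul_apply, LinearMap.id_apply,
      Submonoid.smul_def] at h
    rw [LinearMap.smul_apply, mul_smul, h]
    simp only [mul_smul]

/-- a linear map that is bijective up to elements of a submonoid is bijective after localisation -/
theorem localizedMap_bijective {N : Type u} [AddCommGroup N] [Module S N] (T : Submonoid S)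
    (ψ : N →ₗ[S] M) (hs : ∀ v, ∃ t ∈ T, ∃ c, ψ c = t • v)
    (hi : ∀ c, ψ c = 0 → ∃ t ∈ T, t • c = 0) :
    Function.Bijective (LocalizedModule.map T ψ) := by
  constructor
  · rw [injective_iff_map_eq_zero]
    intro x
    induction x using LocalizedModule.induction_on with
    | h c t =>
      intro h
      rw [LocalizedModule.map_mk, ← LocalizedModule.zero_mk 1, LocalizedModule.mk_eq] at h
      obtain ⟨w, hw⟩ := h
      simp only [one_smul, smul_zero] at hw
      obtain ⟨t', ht', h'⟩ := hi (w • c) (by rw [Submonoid.smul_def, map_smul]; exact hw)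
      rw [← LocalizedModule.zero_mk 1, LocalizedModule.mk_eq]
      refine ⟨⟨t', ht'⟩ * w, ?_⟩
      rw [one_smul, smul_zero, smul_zero, mul_smul]
      exact h'
  · intro y
    induction y using LocalizedModule.induction_on with
    | h v t =>
      obtain ⟨t', ht', c, hc⟩ := hs v
      refine ⟨LocalizedModule.mk c (⟨t', ht'⟩ * t), ?_⟩
      rw [LocalizedModule.map_mk, hc, LocalizedModule.mk_eq]
      refine ⟨1, ?_⟩
      simp only [one_smul, Submonoid.smul_def, Submonoid.coe_mul, smul_smul]
      congr 1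
      ring

end Frame

section Tensor

variable (ι : Type u) [Fintype ι] {d : ℕ}

/-- the symmetric product of the classes of chosen elements of `J` -/
def tg (f : Fin d → J) (σ : ι → Fin d) : SymmetricPower R ι J.Cotangent :=
  SymmetricPower.tprod R fun i => J.toCotangent (f (σ i))

theorem phi_sum_tg (f : Fin d → J) {β : Type*} (B : Finset β) (c : β → R) (σ : β → ι → Fin d) :
    SymGr.Quasi.phi J ι (∑ b ∈ B, c b • tg ι f (σ b)) = 0 ↔
      eval (fun i => (f i : R)) (∑ b ∈ B, monomial (∑ i, Finsupp.single (σ b i) 1) (c b)) ∈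
        J ^ (Fintype.card ι + 1) := by
  have hprod : ∀ σ : ι → Fin d, ∏ i, (f (σ i) : R) =
      eval (fun i => (f i : R)) (monomial (∑ i, Finsupp.single (σ i) 1) (1 : R)) := by
    intro σ
    rw [monomial_sum_one, map_prod]
    refine Finset.prod_congr rfl fun i _ => ?_
    simp [eval_monomial, Finsupp.prod_single_index]
  rw [SymGr.Quasi.phi_eq_zero_iff, ← Ideal.Quotient.eq_zero_iff_mem, map_sum, map_sum, map_sum,
    map_sum]
  refine iff_of_eq (congrArg (· = _) (Finset.sum_congr rfl fun b _ => ?_))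
  rw [map_smul, map_smul, tg, SymGr.Quasi.phi_tprod, AdicFS.SymGr.emb_zetaJ, hprod,
    eval_monomial, eval_monomial, one_mul, map_mul, Algebra.smul_def, Ideal.Quotient.algebraMap_eq]

variable {ι}

theorem tg_eq (f : Fin d → J) {σ σ' : ι → Fin d}
    (h : ∑ i, Finsupp.single (σ i) (1 : ℕ) = ∑ i, Finsupp.single (σ' i) 1) :
    tg ι f σ = tg ι f σ' := by
  obtain ⟨e, rfl⟩ := SymGr.Quasi.exists_perm h
  exact SymmetricPower.tprod_equiv e fun i => J.toCotangent (f (σ' i))

end Tensor

section Away

variable {g : R} {d : ℕ} {f : Fin d → J}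

/-- local data: after inverting `g` the ideal is generated by the quasi-regular sequence `f` -/
structure IsLocalQR (J : Ideal R) (g : R) (f : Fin d → J) : Prop where
  span : ∀ x ∈ J, ∃ N, g ^ N * x ∈ Ideal.span (Set.range fun i => (f i : R))
  qr : ∀ (n : ℕ) (Q : MvPolynomial (Fin d) R), Q.IsHomogeneous n →
    eval (fun i => (f i : R)) Q ∈ J ^ (n + 1) → ∀ e, ∃ N, g ^ N * Q.coeff e ∈ J

theorem exists_common_pow {β : Type*} (s : Finset β) {P : β → ℕ → Prop}
    (hP : ∀ b ∈ s, ∃ N, P b N) (hmono : ∀ b N M, N ≤ M → P b N → P b M) :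
    ∃ N, ∀ b ∈ s, P b N := by
  classical
  choose! N hN using hP
  exact ⟨s.sup N, fun b hb => hmono b _ _ (Finset.le_sup hb) (hN b hb)⟩

theorem IsLocalQR.cotangent_span (h : IsLocalQR J g f) (v : J.Cotangent) :
    ∃ (N : ℕ) (c : Fin d → R), g ^ N • v = ∑ i, c i • J.toCotangent (f i) := by
  obtain ⟨⟨x, hx⟩, rfl⟩ := J.toCotangent_surjective v
  obtain ⟨N, hN⟩ := h.span x hx
  obtain ⟨c, hc⟩ := (Submodule.mem_span_range_iff_exists_fun R).1 hN
  refine ⟨N, c, ?_⟩
  simp only [← map_smul, ← map_sum]
  refine congrArg _ (Subtype.ext ?_)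
  simpa [Submodule.coe_sum, SetLike.val_smul] using hc.symm

/-- the annihilator of an element in the kernel of `phi` contains a power of `g` -/
theorem IsLocalQR.pow_smul_eq_zero (h : IsLocalQR J g f) (ι : Type u) [Fintype ι] [Nonempty ι]
    {s : SymmetricPower R ι J.Cotangent} (hs : SymGr.Quasi.phi J ι s = 0) :
    ∃ N, g ^ N • s = 0 := by
  classical
  -- after a power of `g` the element is a combination of the symmetric products of the `f`
  have hspan : ∀ t : SymmetricPower R ι J.Cotangent,
      ∃ N, g ^ N • t ∈ Submodule.span R (Set.range (tg ι f)) := by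
    intro t
    have ht : t ∈ Submodule.span R (Set.range (SymmetricPower.tprod R (ι := ι) (M := J.Cotangent))) :=
      (SymmetricPower.span_tprod_eq_top R ι J.Cotangent) ▸ trivial
    induction ht using Submodule.span_induction with
    | mem t ht =>
      obtain ⟨v, rfl⟩ := ht
      choose N c hc using fun i => h.cotangent_span (v i)
      refine ⟨∑ i, N i, ?_⟩
      rw [← Finset.prod_pow_eq_pow_sum, ← MultilinearMap.map_smul_univ,
        show (fun i => g ^ N i • v i) = fun i => ∑ j, c i j • J.toCotangent (f j) from funext hc,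
        MultilinearMap.map_sum]
      refine sum_mem fun σ _ => ?_
      rw [MultilinearMap.map_smul_univ]
      exact Submodule.smul_mem _ _ (Submodule.subset_span ⟨σ, rfl⟩)
    | zero => exact ⟨0, by simp⟩
    | add a b _ _ ha hb =>
      obtain ⟨N, hN⟩ := ha
      obtain ⟨M, hM⟩ := hb
      refine ⟨N + M, ?_⟩
      rw [smul_add, pow_add]
      refine add_mem ?_ ?_
      · rw [mul_comm, mul_smul]; exact Submodule.smul_mem _ _ hN
      · rw [mul_smul]; exact Submodule.smul_mem _ _ hM
    | smul c a _ ha =>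
      obtain ⟨N, hN⟩ := ha
      exact ⟨N, by rw [smul_comm]; exact Submodule.smul_mem _ _ hN⟩
  obtain ⟨N, hN⟩ := hspan s
  obtain ⟨c, hc⟩ := (Submodule.mem_span_range_iff_exists_fun R).1 hN
  have h0 : SymGr.Quasi.phi J ι (∑ σ, c σ • tg ι f σ) = 0 := by rw [hc, map_smul, hs, smul_zero]
  rw [phi_sum_tg] at h0
  obtain ⟨M, hM⟩ := exists_common_pow
    (Finset.image (fun σ : ι → Fin d => ∑ i, Finsupp.single (σ i) (1 : ℕ)) Finset.univ)
    (P := fun e M => g ^ M * (∑ σ : ι → Fin d, monomial (∑ i, Finsupp.single (σ i) 1) (c σ)).coeff e ∈ J)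
    (fun e _ => h.qr _ _ (SymGr.Quasi.isHomogeneous_sum ι c) h0 e)
    (fun e a b hab ha => by
      obtain ⟨k, rfl⟩ := Nat.exists_eq_add_of_le hab
      rw [pow_add, mul_comm (g ^ a), mul_assoc]
      exact J.mul_mem_left _ ha)
  refine ⟨M + N, ?_⟩
  rw [pow_add, mul_smul, ← hc, Finset.smul_sum,
    ← Finset.sum_fiberwise_of_maps_to (fun σ _ => Finset.mem_image_of_mem
    (fun σ : ι → Fin d => ∑ i, Finsupp.single (σ i) (1 : ℕ)) (Finset.mem_univ σ))]
  refine Finset.sum_eq_zero fun e he => ?_
  have he' := hM e he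
  obtain ⟨σ₀, -, rfl⟩ := Finset.mem_image.mp he
  rw [Finset.sum_congr rfl (fun σ hσ => by
      rw [tg_eq f (Finset.mem_filter.mp hσ).2, smul_smul]), ← Finset.sum_smul, ← Finset.mul_sum]
  refine SymGr.Quasi.smul_eq_zero ?_ _
  convert he' using 2
  rw [coeff_sum, Finset.sum_filter]
  exact Finset.sum_congr rfl fun σ _ => by rw [coeff_monomial]

end Away

/-- the local data extracted from `IsLocallyQuasiRegular` -/
theorem exists_isLocalQR (h : PP16.IsLocallyQuasiRegular R J) (P : Ideal R) [P.IsPrime]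
    (hP : J ≤ P) : ∃ (g : R), g ∉ P ∧ ∃ (d : ℕ) (f : Fin d → J), IsLocalQR J g f := by
  classical
  obtain ⟨g, hg, d, f', hq, hsp⟩ := h P hP
  let A := Localization.Away g
  have hmem : ∀ i, f' i ∈ J.map (algebraMap R A) := fun i => hsp ▸ Ideal.subset_span (Set.mem_range_self i)
  choose num hnum using fun i =>
    (IsLocalization.mem_map_algebraMap_iff (Submonoid.powers g) A).1 (hmem i)
  let f : Fin d → J := fun i => (num i).1
  have hsp2 : Ideal.span (Set.range fun i => algebraMap R A (f i)) = Ideal.span (Set.range f') := by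
    have hu : ∀ i, IsUnit (algebraMap R A (num i).2) := fun i => IsLocalization.map_units A (num i).2
    refine le_antisymm (Ideal.span_le.2 (Set.range_subset_iff.2 fun i => ?_))
      (Ideal.span_le.2 (Set.range_subset_iff.2 fun i => ?_))
    · rw [← hnum i]
      exact Ideal.mul_mem_right _ _ (Ideal.subset_span (Set.mem_range_self i))
    · refine (Ideal.unit_mul_mem_iff_mem _ (hu i)).1 ?_
      rw [mul_comm, hnum i]
      exact Ideal.subset_span (Set.mem_range_self i)
  have hq2 : CAlgX.IsQuasiRegular fun i => algebraMap R A (f i) :=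
    isQuasiRegular_of_span_eq f' _ hq hsp2
  have hspan2 : Ideal.span (Set.range fun i => algebraMap R A (f i)) = J.map (algebraMap R A) :=
    hsp2.trans hsp
  refine ⟨g, hg, d, f, ⟨fun x hx => ?_, fun n Q hQ hev e => ?_⟩⟩
  · have h1 : algebraMap R A x ∈ (Ideal.span (Set.range fun i => (f i : R))).map (algebraMap R A) := by
      rw [Ideal.map_span, ← Set.range_comp]
      exact hspan2.ge (Ideal.mem_map_of_mem _ hx)
    obtain ⟨_, ⟨N, rfl⟩, hN⟩ :=
      (IsLocalization.algebraMap_mem_map_algebraMap_iff (Submonoid.powers g) A _ x).1 h1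
    exact ⟨N, hN⟩
  · have h1 : eval (fun i => algebraMap R A (f i)) (MvPolynomial.map (algebraMap R A) Q) ∈
        Ideal.span (Set.range fun i => algebraMap R A (f i)) ^ (n + 1) := by
      rw [hspan2, ← Ideal.map_pow, eval_map, ← coe_eval₂Hom,
        show eval₂Hom (algebraMap R A) (fun i => algebraMap R A (f i)) Q =
          algebraMap R A (eval (fun i => (f i : R)) Q) from
          (eval₂_comp_left (algebraMap R A) (RingHom.id R) (fun i => (f i : R)) Q).symm]
      exact Ideal.mem_map_of_mem _ hev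
    have h2 := hq2 n _ (hQ.map _) h1 e
    rw [hspan2, coeff_map] at h2
    obtain ⟨_, ⟨N, rfl⟩, hN⟩ :=
      (IsLocalization.algebraMap_mem_map_algebraMap_iff (Submonoid.powers g) A _ _).1 h2
    exact ⟨N, hN⟩

theorem fg_of_isLocallyQuasiRegular (h : PP16.IsLocallyQuasiRegular R J) : J.FG := by
  classical
  let T : Set R := {g | ∃ I : Ideal R, I.FG ∧ I ≤ J ∧ ∀ x ∈ J, ∃ N, g ^ N * x ∈ I}
  have hT : Ideal.span T = ⊤ := by
    by_contra hne
    obtain ⟨P, hP, hle⟩ := Ideal.exists_le_maximal _ hne
    by_cases hJP : J ≤ P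
    · obtain ⟨g, hg, d, f, hf⟩ := exists_isLocalQR h P hJP
      exact hg (hle (Ideal.subset_span ⟨_, Submodule.fg_span (Set.finite_range _),
        Ideal.span_le.2 (Set.range_subset_iff.2 fun i => (f i).2), hf.span⟩))
    · obtain ⟨g, hgJ, hg⟩ := SetLike.not_le_iff_exists.1 hJP
      exact hg (hle (Ideal.subset_span ⟨Ideal.span {g}, Submodule.fg_span_singleton g,
        (Ideal.span_singleton_le_iff_mem J).2 hgJ,
        fun x _ => ⟨1, Ideal.mul_mem_right _ _ (by simpa using Ideal.mem_span_singleton_self g)⟩⟩))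
  obtain ⟨t, htT, ht⟩ := Submodule.mem_span_finite_of_mem_span ((Ideal.eq_top_iff_one _).1 hT)
  choose I hIfg hIle hI using fun g : t => htT g.2
  have hJ : J = ⨆ g : t, I g := by
    refine le_antisymm (fun x hx => ?_) (iSup_le hIle)
    refine Submodule.mem_of_span_eq_top_of_smul_pow_mem _ (t : Set R) ?_ x fun g => ?_
    · exact (Ideal.eq_top_iff_one _).2 ht
    · obtain ⟨N, hN⟩ := hI ⟨g, g.2⟩ x hx
      exact ⟨N, Submodule.mem_iSup_of_mem (⟨g, g.2⟩ : t) hN⟩
  rw [hJ]
  exact Submodule.fg_iSup _ hIfg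

theorem symGrBijective_of_isLocallyQuasiRegular (h : PP16.IsLocallyQuasiRegular R J) :
    PP16.SymGrBijective R J := by
  rw [SymGr.Quasi.symGrBijective_iff]
  intro ι _ _
  refine ⟨(injective_iff_map_eq_zero _).2 fun s hs => ?_, SymGr.Quasi.phi_surjective J ι⟩
  let T := LinearMap.ker (LinearMap.toSpanSingleton R (SymmetricPower R ι J.Cotangent) s)
  suffices hT : T = ⊤ by simpa [T] using (hT ▸ trivial : (1 : R) ∈ T)
  by_contra hne
  obtain ⟨P, hP, hle⟩ := Ideal.exists_le_maximal T hne
  by_cases hJP : J ≤ P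
  · obtain ⟨g, hg, d, f, hf⟩ := exists_isLocalQR h P hJP
    obtain ⟨N, hN⟩ := hf.pow_smul_eq_zero ι hs
    exact hg (hP.isPrime.mem_of_pow_mem N (hle (show g ^ N ∈ T by simpa [T] using hN)))
  · exact hJP fun x hx => hle (show x ∈ T by simpa [T] using SymGr.Quasi.smul_eq_zero hx s)

theorem projective_of_isLocallyQuasiRegular (h : PP16.IsLocallyQuasiRegular R J) :
    Module.Projective (R ⧸ J) J.Cotangent := by
  classical
  -- near every prime containing `J` a free presentation, up to powers of `g`
  have hloc : ∀ p : Ideal (R ⧸ J), p.IsPrime → ∃ g : R ⧸ J, g ∉ p ∧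
      ∃ (d : ℕ) (ψ : (Fin d → R ⧸ J) →ₗ[R ⧸ J] J.Cotangent),
        (∀ v, ∃ N, ∃ c, ψ c = g ^ N • v) ∧ (∀ c, ψ c = 0 → ∃ N, g ^ N • c = 0) := by
    intro p hp
    haveI := hp
    obtain ⟨g, hg, d, f, hf⟩ := exists_isLocalQR h (p.comap (Ideal.Quotient.mk J))
      (fun x hx => by
        rw [Ideal.mem_comap, Ideal.Quotient.eq_zero_iff_mem.2 hx]; exact zero_mem _)
    let ψ : (Fin d → R ⧸ J) →ₗ[R ⧸ J] J.Cotangent :=
      Fintype.linearCombination (R ⧸ J) (fun i => J.toCotangent (f i))
    refine ⟨Ideal.Quotient.mk J g, hg, d, ψ, fun v => ?_, fun c hc => ?_⟩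
    · obtain ⟨N, c, hc⟩ := hf.cotangent_span v
      refine ⟨N, fun i => Ideal.Quotient.mk J (c i), ?_⟩
      rw [← map_pow, ← Ideal.Quotient.algebraMap_eq, algebraMap_smul, hc]
      simp only [ψ, Fintype.linearCombination_apply]
      exact Finset.sum_congr rfl fun i _ => algebraMap_smul (R ⧸ J) (c i) (J.toCotangent (f i))
    · choose c' hc' using fun i => Ideal.Quotient.mk_surjective (c i)
      have h0 : J.toCotangent (∑ i, c' i • f i) = 0 := by
        rw [map_sum, ← hc]
        simp only [ψ, Fintype.linearCombination_apply]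
        refine Finset.sum_congr rfl fun i _ => ?_
        rw [map_smul, ← hc' i]
        exact (algebraMap_smul (R ⧸ J) (c' i) (J.toCotangent (f i))).symm
      rw [Ideal.toCotangent_eq_zero] at h0
      obtain ⟨N, hN⟩ := exists_common_pow (Finset.univ : Finset (Fin d))
        (P := fun i N => g ^ N * c' i ∈ J)
        (fun i _ => by
          have := hf.qr 1 _ (isHomogeneous_lin c')
            (by simpa [Submodule.coe_sum] using h0) (Finsupp.single i 1)
          rwa [coeff_lin] at this)
        (fun i a b hab ha => by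
          obtain ⟨k, rfl⟩ := Nat.exists_eq_add_of_le hab
          rw [pow_add, mul_comm (g ^ a), mul_assoc]
          exact J.mul_mem_left _ ha)
      refine ⟨N, funext fun i => ?_⟩
      rw [Pi.smul_apply, smul_eq_mul, Pi.zero_apply, ← hc' i, ← map_pow, ← map_mul,
        Ideal.Quotient.eq_zero_iff_mem]
      exact hN i (Finset.mem_univ i)
  choose g hg d ψ hψs hψi using hloc
  have hbij : ∀ (p : Ideal (R ⧸ J)) (hp : p.IsPrime) (T : Submonoid (R ⧸ J)), g p hp ∈ T →
      Function.Bijective (LocalizedModule.map T (ψ p hp)) := by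
    intro p hp T hT
    refine localizedMap_bijective T _ (fun v => ?_) (fun c hc => ?_)
    · obtain ⟨N, c, hc⟩ := hψs p hp v
      exact ⟨_, pow_mem hT N, c, hc⟩
    · obtain ⟨N, hN⟩ := hψi p hp c hc
      exact ⟨_, pow_mem hT N, hN⟩
  haveI : Module.FinitePresentation (R ⧸ J) J.Cotangent := by
    refine Module.FinitePresentation.of_localizationSpan
      (Set.range fun p : {p : Ideal (R ⧸ J) // p.IsPrime} => g p.1 p.2) ?_ ?_
    · by_contra hne
      obtain ⟨P, hP, hle⟩ := Ideal.exists_le_maximal _ hne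
      exact hg P hP.isPrime (hle (Ideal.subset_span ⟨⟨P, hP.isPrime⟩, rfl⟩))
    · rintro ⟨_, ⟨p, rfl⟩⟩
      haveI : Module.FinitePresentation (R ⧸ J) (Fin (d p.1 p.2) → R ⧸ J) :=
        Module.finitePresentation_of_projective _ _
      exact Module.finitePresentation_of_surjective _
        (hbij p.1 p.2 (Submonoid.powers (g p.1 p.2)) (Submonoid.mem_powers _)).2
        (by rw [LinearMap.ker_eq_bot.2
          (hbij p.1 p.2 (Submonoid.powers (g p.1 p.2)) (Submonoid.mem_powers _)).1]
            exact Submodule.fg_bot)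
  refine Module.projective_of_localization_maximal fun I hI => ?_
  exact Module.Projective.of_equiv
    (LinearEquiv.ofBijective _ (hbij I hI.isPrime I.primeCompl (hg I hI.isPrime)))

theorem isLocallyQuasiRegular_of (hfg : J.FG) (hproj : Module.Projective (R ⧸ J) J.Cotangent)
    (hsym : PP16.SymGrBijective R J) : PP16.IsLocallyQuasiRegular R J := by
  classical
  intro P hPprime hJP
  haveI := hproj
  haveI : Module.Finite R J := Module.Finite.iff_fg.2 hfg
  haveI : Module.Finite R J.Cotangent := Module.Finite.of_surjective _ J.toCotangent_surjective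
  haveI : Module.Finite (R ⧸ J) J.Cotangent := Module.Finite.of_restrictScalars_finite R _ _
  set q := Ideal.Quotient.mk J with hqdef
  let p : Ideal (R ⧸ J) := P.map q
  haveI : p.IsPrime := Ideal.map_isPrime_of_surjective Ideal.Quotient.mk_surjective
    (by rw [Ideal.mk_ker]; exact hJP)
  obtain ⟨G', r, Ψ, Φ, hG', hΨΦ, hΦΨ⟩ := exists_frame (S := R ⧸ J) (M := J.Cotangent) p
  obtain ⟨G, rfl⟩ := Ideal.Quotient.mk_surjective G'
  have hG : G ∉ P := fun h => hG' (Ideal.mem_map_of_mem _ h)
  choose f hf using fun i : Fin r => J.toCotangent_surjective (Ψ (Pi.single i 1))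
  have hdecomp : ∀ v : J.Cotangent, ∃ c : Fin r → R, G • v = ∑ i, c i • J.toCotangent (f i) := by
    intro v
    choose c hc using fun i => Ideal.Quotient.mk_surjective (Φ v i)
    refine ⟨c, ?_⟩
    have hv := hΨΦ v
    rw [show Φ v = ∑ i, Φ v i • Pi.single i 1 from pi_eq_sum_univ' _, map_sum] at hv
    rw [← algebraMap_smul (R ⧸ J) G v, Ideal.Quotient.algebraMap_eq, ← hv]
    refine Finset.sum_congr rfl fun i _ => ?_
    rw [map_smul, hf i, ← hc i]
    exact algebraMap_smul (R ⧸ J) (c i) _
  -- forms of degree `n`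
  have hform : ∀ (n : ℕ) (Q : MvPolynomial (Fin r) R), Q.IsHomogeneous n →
      eval (fun i => (f i : R)) Q ∈ J ^ (n + 1) → ∀ e, G ^ n * Q.coeff e ∈ J := by
    intro n Q hQ hev e
    rcases Nat.eq_zero_or_pos n with rfl | hn
    · rw [← totalDegree_zero_iff_isHomogeneous, totalDegree_eq_zero_iff_eq_C] at hQ
      rw [hQ, eval_C, zero_add, pow_one] at hev
      rw [hQ, coeff_C]
      split_ifs
      · exact J.mul_mem_left _ hev
      · simp
    by_cases he : e.degree = n
    swap
    · rw [hQ.coeff_eq_zero he, mul_zero]; exact zero_mem _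
    let ι := ULift.{u} (Fin n)
    have hcard : Fintype.card ι = n := by simp [ι]
    haveI : Nonempty ι := ⟨⟨⟨0, hn⟩⟩⟩
    have hd : 0 < r := by
      by_contra hd
      obtain rfl : r = 0 := by omega
      rw [Subsingleton.elim e 0, map_zero] at he
      omega
    let l : J.Cotangent →ₗ[R] MvPolynomial (Fin r) (R ⧸ J) :=
      (∑ i, (((LinearMap.proj i).comp Φ).restrictScalars R).smulRight (X i))
    have hl : ∀ j, l (J.toCotangent (f j)) = C (q G) * X j := by
      intro j
      simp only [l, LinearMap.sum_apply, LinearMap.smulRight_apply, LinearMap.restrictScalars_apply,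
        LinearMap.comp_apply, LinearMap.proj_apply, hf, hΦΨ, Pi.smul_apply, smul_eq_mul]
      rw [Finset.sum_eq_single j (fun b _ hb => by simp [Pi.single_eq_of_ne hb]) (by simp),
        Pi.single_eq_same, mul_one, smul_eq_C_mul]
    let L : SymmetricPower R ι J.Cotangent →ₗ[R] MvPolynomial (Fin r) (R ⧸ J) :=
      SymGr.Basic.symLift ((MultilinearMap.mkPiAlgebra R ι (MvPolynomial (Fin r) (R ⧸ J))).compLinearMap
        fun _ => l) fun σ v => Equiv.prod_comp σ fun i => l (v i)
    have hL : ∀ σ : ι → Fin r,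
        L (tg ι f σ) = C (q G ^ n) * monomial (∑ i, Finsupp.single (σ i) 1) 1 := by
      intro σ
      refine (SymGr.Basic.symLift_tprod _ _ _).trans ?_
      rw [monomial_sum_one, show q G ^ n = q G ^ Fintype.card ι by rw [hcard], map_pow, Fintype.card, ← Finset.prod_const,
        ← Finset.prod_mul_distrib]
      simp [hl, X]
    let σ₀ : (Fin r →₀ ℕ) → ι → Fin r := fun e =>
      if h : e.degree = Fintype.card ι then (SymGr.Quasi.exists_sum_single h).choose
      else fun _ => ⟨0, hd⟩
    have hg : ∀ e ∈ Q.support, ∑ i, Finsupp.single (σ₀ e i) 1 = e := by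
      intro e he
      have hdeg : e.degree = Fintype.card ι := by
        rw [hcard]
        by_contra hne
        exact mem_support_iff.mp he (hQ.coeff_eq_zero hne)
      simp only [σ₀, dif_pos hdeg]
      exact (SymGr.Quasi.exists_sum_single hdeg).choose_spec
    have hbij := (SymGr.Quasi.symGrBijective_iff J).mp hsym ι
    have hs : ∑ e ∈ Q.support, Q.coeff e • tg ι f (σ₀ e) = 0 := by
      refine (injective_iff_map_eq_zero _).mp hbij.1 _ ((phi_sum_tg ι f _ _ _).mpr ?_)
      rw [Finset.sum_congr rfl (fun e he => by rw [hg e he]), ← Q.as_sum, hcard]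
      exact hev
    have h2 := congrArg L hs
    rw [map_zero, map_sum] at h2
    have h3 : ∑ e ∈ Q.support, monomial e (q (G ^ n * Q.coeff e)) = 0 := by
      rw [← h2]
      refine Finset.sum_congr rfl fun e he => ?_
      rw [map_smul, hL, hg e he, C_mul_monomial, mul_one, ← algebraMap_smul (R ⧸ J), smul_monomial,
        smul_eq_mul, Ideal.Quotient.algebraMap_eq, map_mul, map_pow, mul_comm]
    rw [← Ideal.Quotient.eq_zero_iff_mem]
    have h4 := congrArg (coeff e) h3
    rw [coeff_sum, coeff_zero] at h4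
    simp only [coeff_monomial, Finset.sum_ite_eq'] at h4
    split_ifs at h4 with h5
    · exact h4
    · rw [notMem_support_iff.mp h5, mul_zero, map_zero]
  -- generation near `P`, by Nakayama
  set I := Ideal.span (Set.range fun i => (f i : R)) with hI
  let Rp := Localization.AtPrime P
  have hle : J.map (algebraMap R Rp) ≤ I.map (algebraMap R Rp) := by
    refine Submodule.le_of_le_smul_of_le_jacobson_bot (Ideal.FG.map hfg _)
      ((?_ : J.map (algebraMap R Rp) ≤ IsLocalRing.maximalIdeal Rp).trans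
        (IsLocalRing.maximalIdeal_le_jacobson ⊥)) ?_
    · rw [← Localization.AtPrime.map_eq_maximalIdeal]
      exact Ideal.map_mono hJP
    · rw [Ideal.map_le_iff_le_comap]
      intro x hx
      obtain ⟨c, hc⟩ := hdecomp (J.toCotangent ⟨x, hx⟩)
      have h0 : J.toCotangent (G • ⟨x, hx⟩ - ∑ i, c i • f i) = 0 := by
        rw [map_sub, map_sum, map_smul, hc, sub_eq_zero]
        simp [map_smul]
      rw [Ideal.toCotangent_eq_zero] at h0
      have hGx : G * x ∈ I ⊔ J * J := by
        refine Submodule.mem_sup.2 ⟨∑ i, c i * (f i : R), Submodule.sum_mem _ fun i _ =>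
          Ideal.mul_mem_left _ _ (Ideal.subset_span (Set.mem_range_self i)),
          G * x - ∑ i, c i * (f i : R), ?_, add_sub_cancel _ _⟩
        rw [← pow_two]
        simpa [Submodule.coe_sum] using h0
      have hu : IsUnit (algebraMap R Rp G) := IsLocalization.map_units Rp (⟨G, hG⟩ : P.primeCompl)
      rw [Ideal.mem_comap, smul_eq_mul, ← Ideal.map_mul, ← Ideal.map_sup,
        ← Ideal.unit_mul_mem_iff_mem _ hu, ← map_mul]
      exact Ideal.mem_map_of_mem _ hGx
  have hm : ∀ x ∈ J, ∃ m : R, m ∉ P ∧ m * x ∈ I := fun x hx =>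
    (IsLocalization.algebraMap_mem_map_algebraMap_iff P.primeCompl Rp I x).1
      (hle (Ideal.mem_map_of_mem _ hx))
  obtain ⟨T, hT⟩ := hfg
  choose! m hmP hmI using fun x (hx : x ∈ T) => hm x (hT ▸ Ideal.subset_span hx)
  set h := ∏ x ∈ T, m x with hh
  have hhP : h ∉ P := fun hc => by
    obtain ⟨x, hx, hxP⟩ := hPprime.prod_mem_iff.1 hc
    exact hmP x hx hxP
  have hhJ : ∀ x ∈ J, h * x ∈ I := by
    intro x hx
    rw [← hT] at hx
    induction hx using Submodule.span_induction with
    | mem x hx =>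
      rw [hh, ← Finset.prod_erase_mul T m hx, mul_assoc]
      exact I.mul_mem_left _ (hmI x hx)
    | zero => simp
    | add a b _ _ ha hb => rw [mul_add]; exact add_mem ha hb
    | smul c a _ ha => rw [smul_eq_mul, mul_left_comm]; exact I.mul_mem_left _ ha
  refine ⟨G * h, fun hc => (hPprime.mem_or_mem hc).elim hG hhP, r,
    fun i => algebraMap R (Localization.Away (G * h)) (f i), ?_⟩
  let A := Localization.Away (G * h)
  have hu : IsUnit (algebraMap R A (G * h)) := IsLocalization.Away.algebraMap_isUnit _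
  rw [map_mul, IsUnit.mul_iff] at hu
  have hspan : Ideal.span (Set.range fun i => algebraMap R A (f i)) = J.map (algebraMap R A) := by
    have e : Ideal.span (Set.range fun i => algebraMap R A (f i)) = I.map (algebraMap R A) := by
      rw [hI, Ideal.map_span, ← Set.range_comp]; rfl
    rw [e]
    refine le_antisymm (Ideal.map_mono (Ideal.span_le.2 (Set.range_subset_iff.2 fun i => (f i).2))) ?_
    rw [Ideal.map_le_iff_le_comap]
    intro x hx
    rw [Ideal.mem_comap, ← Ideal.unit_mul_mem_iff_mem _ hu.2, ← map_mul]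
    exact Ideal.mem_map_of_mem _ (hhJ x hx)
  refine ⟨?_, hspan⟩
  intro n Q hQ hev e
  rw [hspan] at hev ⊢
  -- clear the denominators
  obtain ⟨⟨b, hb⟩, hbQ⟩ := IsLocalization.exist_integer_multiples (Submonoid.powers (G * h))
    Q.support (fun e => Q.coeff e)
  choose! num hnum using hbQ
  let Q₀ : MvPolynomial (Fin r) R := ∑ e ∈ Q.support, monomial e (num e)
  have hQ₀ : MvPolynomial.map (algebraMap R A) Q₀ = C (algebraMap R A b) * Q := by
    conv_rhs => rw [Q.as_sum, Finset.mul_sum]
    simp only [Q₀, map_sum, map_monomial]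
    refine Finset.sum_congr rfl fun e he => ?_
    rw [C_mul_monomial]
    exact congrArg _ ((hnum e he).trans (Algebra.smul_def _ _))
  have hQ₀h : Q₀.IsHomogeneous n := IsHomogeneous.sum _ _ _ fun e he => isHomogeneous_monomial _ (by
    by_contra hne
    exact mem_support_iff.mp he (hQ.coeff_eq_zero hne))
  have h1 : algebraMap R A (eval (fun i => (f i : R)) Q₀) ∈ (J ^ (n + 1)).map (algebraMap R A) := by
    rw [Ideal.map_pow, show algebraMap R A (eval (fun i => (f i : R)) Q₀) =
      eval (fun i => algebraMap R A (f i)) (MvPolynomial.map (algebraMap R A) Q₀) by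
        rw [eval_map]; exact eval₂_comp_left (algebraMap R A) (RingHom.id R) _ Q₀,
      hQ₀, map_mul, eval_C]
    exact Ideal.mul_mem_left _ _ hev
  obtain ⟨_, ⟨N, rfl⟩, hN⟩ :=
    (IsLocalization.algebraMap_mem_map_algebraMap_iff (Submonoid.powers (G * h)) A _ _).1 h1
  have h2 := hform n (C ((G * h) ^ N) * Q₀) (hQ₀h.C_mul _) (by rwa [map_mul, eval_C]) e
  rw [coeff_C_mul] at h2
  have h3 := Ideal.mem_map_of_mem (algebraMap R A) h2
  simp only [map_mul, map_pow] at h3
  rw [Ideal.unit_mul_mem_iff_mem _ (hu.1.pow n),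
    Ideal.unit_mul_mem_iff_mem _ ((hu.1.mul hu.2).pow N)] at h3
  have h4 : algebraMap R A (Q₀.coeff e) = algebraMap R A b * Q.coeff e := by
    have := congrArg (coeff e) hQ₀
    rwa [coeff_map, coeff_C_mul] at this
  rw [h4] at h3
  exact (Ideal.unit_mul_mem_iff_mem _ (IsLocalization.map_units A ⟨b, hb⟩)).1 h3

end Groth.Agent.QReg
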